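import Mathlib

/-!
# Glueing morphisms from a flat scheme into a quasi-affine scheme

For two `A`-algebras `T₁`, `T₂` mapping to `T₃` such that `0 → A → T₁ × T₂ → T₃` is exact and
`Spec T₁ ⊔ Spec T₂ → Spec A` is surjective (for instance the two sides of a glueing pair), morphisms from
the base changes of a flat `A`-scheme to a quasi-affine scheme glue uniquely.
-/

set_option autoImplicit false
set_option linter.style.haveILetI false

noncomputable section

open CategoryTheory CategoryTheory.Limits AlgebraicGeometry TensorProduct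

universe u

namespace Groth.Agent.BLTorsor

variable {A : Type u} [CommRing A] {T₁ T₂ T₃ : Type u} [CommRing T₁] [CommRing T₂] [CommRing T₃]
  [Algebra A T₁] [Algebra A T₂] [Algebra A T₃]

/-- `0 → A → T₁ × T₂ → T₃` is exact and `Spec T₁ ⊔ Spec T₂ → Spec A` is surjective. -/
structure IsTriple (e₁ : T₁ →ₐ[A] T₃) (e₂ : T₂ →ₐ[A] T₃) : Prop where
  inj : Function.Injective fun a : A => (algebraMap A T₁ a, algebraMap A T₂ a)
  exact : ∀ x y, e₁ x = e₂ y → ∃ a, algebraMap A T₁ a = x ∧ algebraMap A T₂ a = y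
  surj : ∀ p : PrimeSpectrum A, (∃ q, PrimeSpectrum.comap (algebraMap A T₁) q = p) ∨
    ∃ q, PrimeSpectrum.comap (algebraMap A T₂) q = p

variable {e₁ : T₁ →ₐ[A] T₃} {e₂ : T₂ →ₐ[A] T₃} (h : IsTriple e₁ e₂)
variable (B : Type u) [CommRing B] [Algebra A B]

theorem map_eq_lTensor {T T' : Type u} [CommRing T] [CommRing T'] [Algebra A T] [Algebra A T']
    (e : T →ₐ[A] T') (x : B ⊗[A] T) :
    Algebra.TensorProduct.map (AlgHom.id A B) e x = e.toLinearMap.lTensor B x := by
  induction x with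
  | zero => simp
  | tmul b t => simp
  | add x y hx hy => rw [map_add, map_add, hx, hy]

include h

theorem eq_of_tmul_eq [Module.Flat A B] {b b' : B}
    (h₁ : b ⊗ₜ[A] (1 : T₁) = b' ⊗ₜ 1) (h₂ : b ⊗ₜ[A] (1 : T₂) = b' ⊗ₜ 1) : b = b' := by
  let δ : A →ₗ[A] T₁ × T₂ := (Algebra.linearMap A T₁).prod (Algebra.linearMap A T₂)
  have hδ : Function.Injective δ := fun a a' he => h.inj he
  have hinj := Module.Flat.lTensor_preserves_injective_linearMap (M := B) δ hδ
  apply (TensorProduct.rid A B).symm.injective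
  refine hinj ((TensorProduct.prodRight A A B T₁ T₂).injective ?_)
  simp [δ, h₁, h₂]

theorem exists_of_map_eq [Module.Flat A B] (x : B ⊗[A] T₁) (y : B ⊗[A] T₂)
    (hxy : Algebra.TensorProduct.map (AlgHom.id A B) e₁ x = Algebra.TensorProduct.map (AlgHom.id A B) e₂ y) :
    ∃ b : B, b ⊗ₜ[A] (1 : T₁) = x ∧ b ⊗ₜ[A] (1 : T₂) = y := by
  let δ : A →ₗ[A] T₁ × T₂ := (Algebra.linearMap A T₁).prod (Algebra.linearMap A T₂)
  let d : T₁ × T₂ →ₗ[A] T₃ := e₁.toLinearMap.coprod (-e₂.toLinearMap)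
  have hex : Function.Exact δ d := by
    intro z
    constructor
    · intro hz
      obtain ⟨a, ha₁, ha₂⟩ := h.exact z.1 z.2 (by simpa [d, ← sub_eq_add_neg, sub_eq_zero] using hz)
      exact ⟨a, Prod.ext ha₁ ha₂⟩
    · rintro ⟨a, rfl⟩
      simp [d, δ]
  have hexB := Module.Flat.lTensor_exact B hex
  have key : ∀ z, d.lTensor B z = e₁.toLinearMap.lTensor B (TensorProduct.prodRight A A B T₁ T₂ z).1
      - e₂.toLinearMap.lTensor B (TensorProduct.prodRight A A B T₁ T₂ z).2 := by
    intro z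
    induction z with
    | zero => simp
    | tmul b t => simp [d, tmul_add, tmul_neg, sub_eq_add_neg]
    | add p q hp hq => simp only [map_add, Prod.fst_add, Prod.snd_add, hp, hq]; abel
  obtain ⟨w, hw⟩ := (hexB ((TensorProduct.prodRight A A B T₁ T₂).symm (x, y))).mp (by
    rw [key, LinearEquiv.apply_symm_apply, sub_eq_zero, ← map_eq_lTensor, ← map_eq_lTensor]
    exact hxy)
  obtain ⟨b, rfl⟩ := (TensorProduct.rid A B).symm.surjective w
  have := congrArg (TensorProduct.prodRight A A B T₁ T₂) hw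
  rw [LinearEquiv.apply_symm_apply] at this
  refine ⟨b, ?_, ?_⟩
  · simpa [δ] using congrArg Prod.fst this
  · simpa [δ] using congrArg Prod.snd this

theorem exists_ringHom [Module.Flat A B] {C : Type u} [CommRing C] (f : C →+* B ⊗[A] T₁)
    (g : C →+* B ⊗[A] T₂)
    (hfg : ∀ c, Algebra.TensorProduct.map (AlgHom.id A B) e₁ (f c) = Algebra.TensorProduct.map (AlgHom.id A B) e₂ (g c)) :
    ∃ w : C →+* B, Algebra.TensorProduct.includeLeftRingHom.comp w = f ∧
      Algebra.TensorProduct.includeLeftRingHom.comp w = g := by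
  choose w hw₁ hw₂ using fun c => exists_of_map_eq h B (f c) (g c) (hfg c)
  refine ⟨{ toFun := w, map_one' := ?_, map_mul' := ?_, map_zero' := ?_, map_add' := ?_ },
    RingHom.ext hw₁, RingHom.ext hw₂⟩
  · apply eq_of_tmul_eq h B <;> simp [hw₁, hw₂, Algebra.TensorProduct.one_def]
  · intro c c'
    apply eq_of_tmul_eq h B
    · rw [hw₁, map_mul, ← hw₁ c, ← hw₁ c', Algebra.TensorProduct.tmul_mul_tmul, one_mul]
    · rw [hw₂, map_mul, ← hw₂ c, ← hw₂ c', Algebra.TensorProduct.tmul_mul_tmul, one_mul]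
  · apply eq_of_tmul_eq h B <;> simp [hw₁, hw₂]
  · intro c c'
    apply eq_of_tmul_eq h B
    · rw [hw₁, map_add, ← hw₁ c, ← hw₁ c', add_tmul]
    · rw [hw₂, map_add, ← hw₂ c, ← hw₂ c', add_tmul]

omit h

/-- The structure morphism `Spec T ⟶ Spec A`. -/
abbrev sp (A : Type u) [CommRing A] (T : Type u) [CommRing T] [Algebra A T] :
    Spec (CommRingCat.of T) ⟶ Spec (CommRingCat.of A) :=
  Spec.map (CommRingCat.ofHom (algebraMap A T))

theorem sp_comp {T T' : Type u} [CommRing T] [CommRing T'] [Algebra A T] [Algebra A T'] (e : T →ₐ[A] T') :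
    Spec.map (CommRingCat.ofHom e.toRingHom) ≫ sp A T = sp A T' := by
  rw [← Spec.map_comp, ← CommRingCat.ofHom_comp]
  congr 2
  exact e.comp_algebraMap

/-- The map of base changes induced by `e : T →ₐ T'`. -/
def bcMap {X : Scheme.{u}} (π : X ⟶ Spec (CommRingCat.of A)) {T T' : Type u} [CommRing T] [CommRing T']
    [Algebra A T] [Algebra A T'] (e : T →ₐ[A] T') : pullback π (sp A T') ⟶ pullback π (sp A T) :=
  pullback.lift (pullback.fst π (sp A T')) (pullback.snd π (sp A T') ≫ Spec.map (CommRingCat.ofHom e.toRingHom))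
    (by rw [Category.assoc, sp_comp, pullback.condition])

@[reassoc (attr := simp)]
theorem bcMap_fst {X : Scheme.{u}} (π : X ⟶ Spec (CommRingCat.of A)) {T T' : Type u} [CommRing T] [CommRing T']
    [Algebra A T] [Algebra A T'] (e : T →ₐ[A] T') :
    bcMap π e ≫ pullback.fst π (sp A T) = pullback.fst π (sp A T') := pullback.lift_fst _ _ _

@[reassoc (attr := simp)]
theorem bcMap_snd {X : Scheme.{u}} (π : X ⟶ Spec (CommRingCat.of A)) {T T' : Type u} [CommRing T] [CommRing T']
    [Algebra A T] [Algebra A T'] (e : T →ₐ[A] T') :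
    bcMap π e ≫ pullback.snd π (sp A T) = pullback.snd π (sp A T') ≫ Spec.map (CommRingCat.ofHom e.toRingHom) :=
  pullback.lift_snd _ _ _

/-- The restriction of a base change along `g : W ⟶ X`. -/
def res {W X : Scheme.{u}} (g : W ⟶ X) (π : X ⟶ Spec (CommRingCat.of A)) (T : Type u) [CommRing T]
    [Algebra A T] : pullback (g ≫ π) (sp A T) ⟶ pullback π (sp A T) :=
  pullback.lift (pullback.fst (g ≫ π) (sp A T) ≫ g) (pullback.snd (g ≫ π) (sp A T))
    (by rw [Category.assoc, pullback.condition])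

@[reassoc (attr := simp)]
theorem res_fst {W X : Scheme.{u}} (g : W ⟶ X) (π : X ⟶ Spec (CommRingCat.of A)) (T : Type u) [CommRing T]
    [Algebra A T] : res g π T ≫ pullback.fst π (sp A T) = pullback.fst (g ≫ π) (sp A T) ≫ g :=
  pullback.lift_fst _ _ _

@[reassoc (attr := simp)]
theorem res_snd {W X : Scheme.{u}} (g : W ⟶ X) (π : X ⟶ Spec (CommRingCat.of A)) (T : Type u) [CommRing T]
    [Algebra A T] : res g π T ≫ pullback.snd π (sp A T) = pullback.snd (g ≫ π) (sp A T) :=
  pullback.lift_snd _ _ _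

theorem res_bcMap {W X : Scheme.{u}} (g : W ⟶ X) (π : X ⟶ Spec (CommRingCat.of A)) {T T' : Type u}
    [CommRing T] [CommRing T'] [Algebra A T] [Algebra A T'] (e : T →ₐ[A] T') :
    bcMap (g ≫ π) e ≫ res g π T = res g π T' ≫ bcMap π e := by
  apply pullback.hom_ext <;> simp

include h in
/-- The two base changes jointly cover the scheme. -/
theorem exists_preimage {X : Scheme.{u}} (π : X ⟶ Spec (CommRingCat.of A)) (x : X) :
    (∃ z, pullback.fst π (sp A T₁) z = x) ∨ ∃ z, pullback.fst π (sp A T₂) z = x := by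
  rcases h.surj (π x) with ⟨q, hq⟩ | ⟨q, hq⟩
  · obtain ⟨z, hz, -⟩ := Scheme.Pullback.exists_preimage_pullback (f := π) (g := sp A T₁) x q hq.symm
    exact Or.inl ⟨z, hz⟩
  · obtain ⟨z, hz, -⟩ := Scheme.Pullback.exists_preimage_pullback (f := π) (g := sp A T₂) x q hq.symm
    exact Or.inr ⟨z, hz⟩

variable {Y : Scheme.{u}} [Y.IsQuasiAffine]

theorem pullbackSpecIso_inv_bcMap {T T' : Type u} [CommRing T] [CommRing T'] [Algebra A T] [Algebra A T']
    (e : T →ₐ[A] T') :
    (pullbackSpecIso A B T').inv ≫ bcMap (sp A B) e =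
      Spec.map (CommRingCat.ofHom (Algebra.TensorProduct.map (AlgHom.id A B) e).toRingHom) ≫
        (pullbackSpecIso A B T).inv := by
  apply pullback.hom_ext
  · rw [Category.assoc, bcMap_fst, pullbackSpecIso_inv_fst, Category.assoc, pullbackSpecIso_inv_fst,
      ← Spec.map_comp, ← CommRingCat.ofHom_comp]
    congr 2
    ext b
    simp
  · rw [Category.assoc, bcMap_snd, pullbackSpecIso_inv_snd_assoc, Category.assoc, pullbackSpecIso_inv_snd,
      ← Spec.map_comp, ← Spec.map_comp, ← CommRingCat.ofHom_comp, ← CommRingCat.ofHom_comp]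
    congr 2

include h in
theorem existsUnique_specB [Module.Flat A B] (a : pullback (sp A B) (sp A T₁) ⟶ Y)
    (b : pullback (sp A B) (sp A T₂) ⟶ Y) (hab : bcMap (sp A B) e₁ ≫ a = bcMap (sp A B) e₂ ≫ b) :
    ∃! w : Spec (CommRingCat.of B) ⟶ Y,
      pullback.fst (sp A B) (sp A T₁) ≫ w = a ∧ pullback.fst (sp A B) (sp A T₂) ≫ w = b := by
  obtain ⟨f, hf⟩ := Spec.map_surjective ((pullbackSpecIso A B T₁).inv ≫ a ≫ Y.toSpecΓ)
  obtain ⟨g, hg⟩ := Spec.map_surjective ((pullbackSpecIso A B T₂).inv ≫ b ≫ Y.toSpecΓ)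
  have hfg : f ≫ CommRingCat.ofHom (Algebra.TensorProduct.map (AlgHom.id A B) e₁).toRingHom =
      g ≫ CommRingCat.ofHom (Algebra.TensorProduct.map (AlgHom.id A B) e₂).toRingHom := by
    apply Spec.map_injective
    rw [Spec.map_comp, Spec.map_comp, hf, hg, ← reassoc_of% (pullbackSpecIso_inv_bcMap (B := B) e₁),
      ← reassoc_of% (pullbackSpecIso_inv_bcMap (B := B) e₂), reassoc_of% hab]
  obtain ⟨w, hw₁, hw₂⟩ := exists_ringHom h B f.hom g.hom (fun c => RingHom.congr_fun (congrArg CommRingCat.Hom.hom hfg) c)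
  let w₀ : Spec (CommRingCat.of B) ⟶ Spec Γ(Y, ⊤) := Spec.map (CommRingCat.ofHom w)
  have h₁ : pullback.fst (sp A B) (sp A T₁) ≫ w₀ = a ≫ Y.toSpecΓ := by
    rw [← cancel_epi (pullbackSpecIso A B T₁).inv, pullbackSpecIso_inv_fst_assoc, ← hf, ← Spec.map_comp]
    exact congrArg Spec.map (CommRingCat.hom_ext hw₁)
  have h₂ : pullback.fst (sp A B) (sp A T₂) ≫ w₀ = b ≫ Y.toSpecΓ := by
    rw [← cancel_epi (pullbackSpecIso A B T₂).inv, pullbackSpecIso_inv_fst_assoc, ← hg, ← Spec.map_comp]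
    exact congrArg Spec.map (CommRingCat.hom_ext hw₂)
  have hr : Set.range w₀ ⊆ Set.range Y.toSpecΓ := by
    rintro _ ⟨x, rfl⟩
    rcases exists_preimage h (sp A B) x with ⟨z, rfl⟩ | ⟨z, rfl⟩
    · exact ⟨a z, (congrArg (fun m => m.base z) h₁).symm⟩
    · exact ⟨b z, (congrArg (fun m => m.base z) h₂).symm⟩
  refine ⟨IsOpenImmersion.lift Y.toSpecΓ w₀ hr, ⟨?_, ?_⟩, ?_⟩
  · rw [← cancel_mono Y.toSpecΓ, Category.assoc, IsOpenImmersion.lift_fac, h₁]
  · rw [← cancel_mono Y.toSpecΓ, Category.assoc, IsOpenImmersion.lift_fac, h₂]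
  · rintro w' ⟨hw'₁, hw'₂⟩
    rw [← cancel_mono Y.toSpecΓ, IsOpenImmersion.lift_fac]
    obtain ⟨c, hc⟩ := Spec.map_surjective (w' ≫ Y.toSpecΓ)
    rw [← hc]
    congr 1
    apply CommRingCat.hom_ext
    refine RingHom.ext fun x => eq_of_tmul_eq h B ?_ ?_
    · have e : Spec.map (c ≫ CommRingCat.ofHom (Algebra.TensorProduct.includeLeftRingHom)) = Spec.map f := by
        rw [Spec.map_comp, hc, hf, ← hw'₁, Category.assoc, pullbackSpecIso_inv_fst_assoc]
      exact (RingHom.congr_fun (congrArg CommRingCat.Hom.hom (Spec.map_injective e)) x).trans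
        (RingHom.congr_fun hw₁ x).symm
    · have e : Spec.map (c ≫ CommRingCat.ofHom (Algebra.TensorProduct.includeLeftRingHom)) = Spec.map g := by
        rw [Spec.map_comp, hc, hg, ← hw'₂, Category.assoc, pullbackSpecIso_inv_fst_assoc]
      exact (RingHom.congr_fun (congrArg CommRingCat.Hom.hom (Spec.map_injective e)) x).trans
        (RingHom.congr_fun hw₂ x).symm

omit [Y.IsQuasiAffine] in
theorem flat_of_openImm {U V : Scheme.{u}} (f : U ⟶ V) [IsOpenImmersion f] : Flat f := inferInstance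

include h in
theorem existsUnique_spec (R : CommRingCat.{u}) (π : Spec R ⟶ Spec (CommRingCat.of A)) [Flat π]
    (a : pullback π (sp A T₁) ⟶ Y) (b : pullback π (sp A T₂) ⟶ Y)
    (hab : bcMap π e₁ ≫ a = bcMap π e₂ ≫ b) :
    ∃! w : Spec R ⟶ Y, pullback.fst π (sp A T₁) ≫ w = a ∧ pullback.fst π (sp A T₂) ≫ w = b := by
  obtain ⟨φ, rfl⟩ := Spec.map_surjective π
  letI := φ.hom.toAlgebra
  haveI : Module.Flat A R := (HasRingHomProperty.Spec_iff (P := @Flat)).mp ‹Flat (Spec.map φ)›
  exact existsUnique_specB h R a b hab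

include h in
theorem existsUnique_of_eq {W : Scheme.{u}} {R : CommRingCat.{u}} (hW : W = Spec R) (π : W ⟶ Spec (CommRingCat.of A))
    [Flat π] (a : pullback π (sp A T₁) ⟶ Y) (b : pullback π (sp A T₂) ⟶ Y)
    (hab : bcMap π e₁ ≫ a = bcMap π e₂ ≫ b) :
    ∃! w : W ⟶ Y, pullback.fst π (sp A T₁) ≫ w = a ∧ pullback.fst π (sp A T₂) ≫ w = b := by
  subst hW
  exact existsUnique_spec h R π a b hab

include h in
/-- Morphisms from the two base changes of a flat scheme to a quasi-affine scheme which agree over `T₃`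
glue uniquely. -/
theorem existsUnique_glue {X : Scheme.{u}} (π : X ⟶ Spec (CommRingCat.of A)) [Flat π]
    (a : pullback π (sp A T₁) ⟶ Y) (b : pullback π (sp A T₂) ⟶ Y)
    (hab : bcMap π e₁ ≫ a = bcMap π e₂ ≫ b) :
    ∃! w : X ⟶ Y, pullback.fst π (sp A T₁) ≫ w = a ∧ pullback.fst π (sp A T₂) ≫ w = b := by
  have local_ : ∀ {W : Scheme.{u}} (g : W ⟶ X), bcMap (g ≫ π) e₁ ≫ res g π T₁ ≫ a =
      bcMap (g ≫ π) e₂ ≫ res g π T₂ ≫ b := fun g => by
    rw [← Category.assoc, res_bcMap, Category.assoc, hab, ← Category.assoc, ← res_bcMap, Category.assoc]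
  have uniq : ∀ {Z : Scheme.{u}} (g : Z ⟶ X) (_ : Flat (g ≫ π)) (w w' : Z ⟶ Y),
      pullback.fst (g ≫ π) (sp A T₁) ≫ w = pullback.fst (g ≫ π) (sp A T₁) ≫ w' →
      pullback.fst (g ≫ π) (sp A T₂) ≫ w = pullback.fst (g ≫ π) (sp A T₂) ≫ w' → w = w' := by
    intro Z g hZ w w' h₁ h₂
    refine Z.affineCover.hom_ext _ _ fun i => ?_
    haveI : Flat (Z.affineCover.f i ≫ g ≫ π) :=
      MorphismProperty.comp_mem @Flat _ _ (flat_of_openImm (Z.affineCover.f i)) hZ
    refine (existsUnique_of_eq h (W := Z.affineCover.X i) rfl (Z.affineCover.f i ≫ g ≫ π)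
      (res (Z.affineCover.f i) (g ≫ π) T₁ ≫ pullback.fst (g ≫ π) (sp A T₁) ≫ w')
      (res (Z.affineCover.f i) (g ≫ π) T₂ ≫ pullback.fst (g ≫ π) (sp A T₂) ≫ w') ?_).unique ⟨?_, ?_⟩ ⟨?_, ?_⟩
    · rw [res_fst_assoc, res_fst_assoc, bcMap_fst_assoc, bcMap_fst_assoc]
    · rw [← h₁, res_fst_assoc]
    · rw [← h₂, res_fst_assoc]
    · rw [res_fst_assoc]
    · rw [res_fst_assoc]
  have hfl (i : X.affineCover.I₀) : Flat (X.affineCover.f i ≫ π) :=
    MorphismProperty.comp_mem @Flat _ _ (flat_of_openImm _) ‹Flat π›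
  choose w hw hwu using fun i => haveI := hfl i; existsUnique_of_eq (Y := Y) h (W := X.affineCover.X i) rfl (X.affineCover.f i ≫ π)
    (res (X.affineCover.f i) π T₁ ≫ a) (res (X.affineCover.f i) π T₂ ≫ b) (local_ _)
  have compat : ∀ i j, pullback.fst (X.affineCover.f i) (X.affineCover.f j) ≫ w i =
      pullback.snd (X.affineCover.f i) (X.affineCover.f j) ≫ w j := by
    intro i j
    have side : ∀ {W : Scheme.{u}} (p : W ⟶ X) (k : X.affineCover.I₀) (r : W ⟶ X.affineCover.X k),
        r ≫ X.affineCover.f k = p →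
        pullback.fst (p ≫ π) (sp A T₁) ≫ r ≫ w k = res p π T₁ ≫ a ∧
        pullback.fst (p ≫ π) (sp A T₂) ≫ r ≫ w k = res p π T₂ ≫ b := by
      intro W p k r hr
      subst hr
      let l₁ : pullback ((r ≫ X.affineCover.f k) ≫ π) (sp A T₁) ⟶ pullback (X.affineCover.f k ≫ π) (sp A T₁) :=
          pullback.lift (pullback.fst _ _ ≫ r) (pullback.snd _ _)
            (by rw [← pullback.condition]; simp)
      let l₂ : pullback ((r ≫ X.affineCover.f k) ≫ π) (sp A T₂) ⟶ pullback (X.affineCover.f k ≫ π) (sp A T₂) :=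
          pullback.lift (pullback.fst _ _ ≫ r) (pullback.snd _ _)
            (by rw [← pullback.condition]; simp)
      have f₁ : l₁ ≫ pullback.fst _ _ = pullback.fst _ _ ≫ r := pullback.lift_fst _ _ _
      have f₂ : l₂ ≫ pullback.fst _ _ = pullback.fst _ _ ≫ r := pullback.lift_fst _ _ _
      have g₁ : l₁ ≫ res (X.affineCover.f k) π T₁ = res (r ≫ X.affineCover.f k) π T₁ := by
        apply pullback.hom_ext
        · refine (Category.assoc _ _ _).trans ?_
          rw [res_fst, res_fst, reassoc_of% f₁]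
        · refine (Category.assoc _ _ _).trans ?_
          rw [res_snd, res_snd]; exact pullback.lift_snd _ _ _
      have g₂ : l₂ ≫ res (X.affineCover.f k) π T₂ = res (r ≫ X.affineCover.f k) π T₂ := by
        apply pullback.hom_ext
        · refine (Category.assoc _ _ _).trans ?_
          rw [res_fst, res_fst, reassoc_of% f₂]
        · refine (Category.assoc _ _ _).trans ?_
          rw [res_snd, res_snd]; exact pullback.lift_snd _ _ _
      constructor
      · rw [← reassoc_of% f₁, (hw k).1, reassoc_of% g₁]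
      · rw [← reassoc_of% f₂, (hw k).2, reassoc_of% g₂]
    obtain ⟨s₁, s₂⟩ := side (pullback.fst (X.affineCover.f i) (X.affineCover.f j) ≫ X.affineCover.f i) i (pullback.fst _ _) rfl
    obtain ⟨t₁, t₂⟩ := side (pullback.fst (X.affineCover.f i) (X.affineCover.f j) ≫ X.affineCover.f i) j (pullback.snd _ _) pullback.condition.symm
    haveI : Flat ((pullback.fst (X.affineCover.f i) (X.affineCover.f j) ≫ X.affineCover.f i) ≫ π) := by
      rw [Category.assoc]
      exact MorphismProperty.comp_mem @Flat _ _ (flat_of_openImm _) (hfl i)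
    exact uniq _ inferInstance _ _ (s₁.trans t₁.symm) (s₂.trans t₂.symm)
  refine ⟨X.affineCover.glueMorphisms w compat, ⟨?_, ?_⟩, ?_⟩
  · refine Scheme.Cover.hom_ext (X.affineCover.pullback₁ (pullback.fst π (sp A T₁))) _ _ fun (i : X.affineCover.I₀) => ?_
    let k := pullback.fst (pullback.fst π (sp A T₁)) (X.affineCover.f i)
    let l : pullback (pullback.fst π (sp A T₁)) (X.affineCover.f i) ⟶ pullback (X.affineCover.f i ≫ π) (sp A T₁) :=
      pullback.lift (pullback.snd _ _) (k ≫ pullback.snd _ _)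
        (by rw [← pullback.condition_assoc, pullback.condition, Category.assoc])
    have hl : l ≫ res (X.affineCover.f i) π T₁ = k := by
      apply pullback.hom_ext
      · rw [Category.assoc, res_fst, pullback.lift_fst_assoc]; exact pullback.condition.symm
      · rw [Category.assoc, res_snd, pullback.lift_snd]
    show k ≫ pullback.fst π (sp A T₁) ≫ X.affineCover.glueMorphisms w compat = k ≫ a
    rw [pullback.condition_assoc, Scheme.Cover.ι_glueMorphisms, ← hl, Category.assoc, ← (hw i).1]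
    exact (pullback.lift_fst_assoc _ _ _ _).symm
  · refine Scheme.Cover.hom_ext (X.affineCover.pullback₁ (pullback.fst π (sp A T₂))) _ _ fun (i : X.affineCover.I₀) => ?_
    let k := pullback.fst (pullback.fst π (sp A T₂)) (X.affineCover.f i)
    let l : pullback (pullback.fst π (sp A T₂)) (X.affineCover.f i) ⟶ pullback (X.affineCover.f i ≫ π) (sp A T₂) :=
      pullback.lift (pullback.snd _ _) (k ≫ pullback.snd _ _)
        (by rw [← pullback.condition_assoc, pullback.condition, Category.assoc])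
    have hl : l ≫ res (X.affineCover.f i) π T₂ = k := by
      apply pullback.hom_ext
      · rw [Category.assoc, res_fst, pullback.lift_fst_assoc]; exact pullback.condition.symm
      · rw [Category.assoc, res_snd, pullback.lift_snd]
    show k ≫ pullback.fst π (sp A T₂) ≫ X.affineCover.glueMorphisms w compat = k ≫ b
    rw [pullback.condition_assoc, Scheme.Cover.ι_glueMorphisms, ← hl, Category.assoc, ← (hw i).2]
    exact (pullback.lift_fst_assoc _ _ _ _).symm
  · rintro w' ⟨h₁, h₂⟩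
    refine X.affineCover.hom_ext _ _ fun i => ?_
    rw [Scheme.Cover.ι_glueMorphisms]
    exact hwu i _ ⟨by rw [← res_fst_assoc, h₁], by rw [← res_fst_assoc, h₂]⟩

end Groth.Agent.BLTorsor
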