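import Groth.Prelude.Def_ActBC
import Groth.Prelude.Def_EtGlue
import Groth.Agent.BLTorsor.Hom
import Groth.Agent.EtGlue7.Basic
import Groth.Agent.SchTorsor.Props
import Groth.Agent.ConsPropLib.QuasiAffine

/-!
# Glueing pairs and torsors: auxiliary facts for Beauville–Laszlo glueing
-/

set_option autoImplicit false
set_option backward.isDefEq.respectTransparency false
set_option backward.isDefEq.respectTransparency.types false
set_option linter.style.haveILetI false

noncomputable section

open CategoryTheory CategoryTheory.Limits MonoidalCategory CartesianMonoidalCategory AlgebraicGeometry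

universe u

namespace Groth.Agent.BLTorsor

variable {A A' : Type u} [CommRing A] [CommRing A'] [Algebra A A'] (t : A)

/-- The map `A_t → A'_t`. -/
def awayHom : Localization.Away t →ₐ[A] Localization.Away (algebraMap A A' t) :=
  { Localization.awayMap (algebraMap A A') t with
    commutes' := fun a => (IsLocalization.map_eq _ a).trans
      (IsScalarTower.algebraMap_apply A A' (Localization.Away (algebraMap A A' t)) a).symm }

/-- The two sides of a glueing pair form a triple. -/
theorem isTriple_of_isGlueingPair (hp : EtGlue.IsGlueingPair A A' t) :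
    IsTriple (awayHom (A' := A') t)
      (IsScalarTower.toAlgHom A A' (Localization.Away (algebraMap A A' t))) where
  inj a a' he := hp.2.1 (Prod.ext (Prod.ext_iff.mp he).2 (Prod.ext_iff.mp he).1)
  exact x y he := by
    obtain ⟨a, h₁, h₂⟩ := hp.2.2.1 y x he.symm
    exact ⟨a, h₂, h₁⟩
  surj p := by
    have h1 := hp.1 1 one_pos
    have key : ∀ (I : Ideal A), I = Ideal.span {t} → Function.Bijective
        (Ideal.quotientMap (Ideal.map (algebraMap A A') (Ideal.span {t ^ 1})) (algebraMap A A') Ideal.le_comap_map) →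
        Ideal.span {t ^ 1} = I → Function.Bijective
        (Ideal.quotientMap (Ideal.map (algebraMap A A') I) (algebraMap A A') Ideal.le_comap_map) := by
      rintro I - hb rfl; exact hb
    exact (EtGlue7.jointly_surjective (key _ rfl h1 (by rw [pow_one])) p).symm

theorem isGlueingPair_of_hyps
    (hq : ∀ m : ℕ, Function.Bijective (Ideal.quotientMap (Ideal.map (algebraMap A A') (Ideal.span {t} ^ m))
      (algebraMap A A') Ideal.le_comap_map))
    (htor : ∀ a' : A', (∃ m : ℕ, algebraMap A A' t ^ m * a' = 0) →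
      ∃! a : A, (∃ m : ℕ, t ^ m * a = 0) ∧ algebraMap A A' a = a') :
    EtGlue.IsGlueingPair A A' t := by
  have hqp : EtGlue.QuotPowBijective A A' t := fun m _ => by
    have h := hq m
    have key : ∀ (I : Ideal A), Ideal.span {t} ^ m = I → Function.Bijective
        (Ideal.quotientMap (Ideal.map (algebraMap A A') I) (algebraMap A A') Ideal.le_comap_map) := by
      rintro I rfl; exact h
    exact key _ (Ideal.span_singleton_pow t m)
  refine (EtGlue7.isGlueingPair_iff hqp).mpr ⟨fun x hx hx' => ?_, fun x' hx' => ?_⟩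
  · exact (htor 0 ⟨0, by simp⟩).unique ⟨hx, hx'⟩ ⟨⟨0, by simp⟩, map_zero _⟩
  · obtain ⟨a, ha, -⟩ := htor x' hx'
    exact ⟨a, ha⟩

variable {S : Scheme.{u}} {G : Over S} [GrpObj G]

theorem fpqc_of_fppf {X : Over S} {a : AlgGrp.Action G X}
    (h : NonAbH1.IsTorsorFor Scheme.fppfPrecoverage a) : NonAbH1.IsTorsorFor Scheme.fpqcPrecoverage a :=
  ⟨h.1, h.2.imp fun _ hR => ⟨Scheme.fppfPrecoverage_le_fpqcPrecoverage _ hR.1, hR.2⟩⟩

theorem flat_torsor [Flat G.hom] (P : NonAbH1.TorsorSch G Scheme.fppfPrecoverage) : Flat P.X.hom :=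
  SchTorsor.torsor_property (@Flat : MorphismProperty Scheme.{u}) (fpqc_of_fppf P.isTorsor) ‹Flat G.hom›

theorem quasiAffine_torsor {R : Type u} [CommRing R] {H : Over (Spec (CommRingCat.of R))} [GrpObj H]
    [H.left.IsQuasiAffine] (P : NonAbH1.TorsorSch H Scheme.fppfPrecoverage) : P.X.left.IsQuasiAffine := by
  haveI : MorphismProperty.DescendsAlong ConsPropLib.qa.{u}
      (@Surjective ⊓ @Flat ⊓ @QuasiCompact : MorphismProperty Scheme.{u}) := ConsPropLib.fpqc_qa
  exact (ConsPropLib.qa_iff_of_isAffine _).mp (SchTorsor.torsor_property ConsPropLib.qa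
    (fpqc_of_fppf P.isTorsor) ((ConsPropLib.qa_iff_of_isAffine _).mpr ‹_›))

section bcComp

variable {S' S'' : Scheme.{u}} (f : S'' ⟶ S') (g : S' ⟶ S) {d : S'' ⟶ S} (X : Over S) (h : f ≫ g = d)

@[reassoc]
theorem bcCompIso_inv_fst_fst :
    (ActBC.bcCompIso f g X h).inv.left ≫ pullback.fst _ f ≫ pullback.fst X.hom g = pullback.fst X.hom d := by
  rw [← ActBC.bcCompIso_hom_left_fst f g X h, ← Category.assoc, ← Over.comp_left, Iso.inv_hom_id]
  exact Category.id_comp _

@[reassoc]
theorem bcCompIso_inv_fst_snd :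
    (ActBC.bcCompIso f g X h).inv.left ≫ pullback.fst _ f ≫ pullback.snd X.hom g =
      pullback.snd X.hom d ≫ f := by
  have e : pullback.fst _ f ≫ pullback.snd X.hom g = (pullback.snd _ f) ≫ f :=
    pullback.condition (f := (Red.bc g X).hom) (g := f)
  rw [e, ← ActBC.bcCompIso_hom_left_snd f g X h, ← Category.assoc, ← Category.assoc, ← Over.comp_left,
    Iso.inv_hom_id]
  exact (Category.assoc _ _ _).trans (Category.id_comp _)

end bcComp

/-- A morphism over the base whose base changes along the two maps are prescribed. -/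
theorem map_eq_of_fst {S' : Scheme.{u}} (g : S' ⟶ S) {X X' : Over S} (f : X ⟶ X')
    (F : Red.bc g X ⟶ Red.bc g X') (hF : pullback.fst X.hom g ≫ f.left = F.left ≫ pullback.fst X'.hom g) :
    (Over.pullback g).map f = F := by
  apply Over.OverMorphism.ext
  apply pullback.hom_ext
  · rw [ActBC.pullback_map_left_fst]; exact hF
  · exact (Over.w ((Over.pullback g).map f)).trans (Over.w F).symm

theorem equiv_side {S' : Scheme.{u}} (g : S' ⟶ S) {X X' : Over S} {a : AlgGrp.Action G X} {a' : AlgGrp.Action G X'}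
    (f : X ⟶ X') (F : NonAbH1.EquivIso (a.bc g) (a'.bc g)) (hF : (Over.pullback g).map f = F.iso.hom) :
    pullback.fst (G ⊗ X).hom g ≫ (a.act ≫ f).left = pullback.fst (G ⊗ X).hom g ≫ ((G ◁ f) ≫ a'.act).left := by
  have h := F.comm
  rw [AlgGrp.Action.bc_act, AlgGrp.Action.bc_act, ← hF, Category.assoc, ← Functor.map_comp,
    Functor.LaxMonoidal.μ_natural_right_assoc, ← Functor.map_comp, cancel_epi] at h
  rw [← ActBC.pullback_map_left_fst, ← ActBC.pullback_map_left_fst, h]

end Groth.Agent.BLTorsor
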